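import Cfsg.Agent.GLClassCount.Normal

/-!
The tuple of polynomials of an invertible matrix is a conjugacy invariant: the sizes of the images
of polynomials in the matrix determine it.
-/

set_option autoImplicit false

open Polynomial

namespace CfsgLib.SLClassCount

open CfsgLib.GLClassCount

universe u

variable {F : Type u} [Field F] [Fintype F] {n : ℕ}

/-- The cyclic module of a polynomial. -/
abbrev cyc (q : F[X]) : Type u := F[X] ⧸ Submodule.span F[X] ({q} : Set F[X])

/-- The size of the image of `a` acting through the matrix `x`. -/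
noncomputable def imgCard (x : GL (Fin n) F) (a : F[X]) : ℕ :=
  Nat.card (Set.range (aeval (Matrix.toLin' (x : Matrix (Fin n) (Fin n) F)) a))

/-- A decomposition of the module of `x` into primary cyclic modules. -/
def IsDec {ι : Type u} [Fintype ι] (x : GL (Fin n) F) (p : ι → F[X]) (e : ι → ℕ) : Prop :=
  (∀ i, (p i).Monic ∧ Irreducible (p i) ∧ (p i).coeff 0 ≠ 0 ∧ 0 < e i) ∧
    (∑ i, e i * (p i).natDegree = n) ∧ Nonempty (glModule x ≃ₗ[F[X]] ((i : ι) → cyc (p i ^ e i)))

theorem imgCard_eq_module (x : GL (Fin n) F) (a : F[X]) :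
    imgCard x a = Nat.card (Set.range fun v : glModule x => a • v) := by
  rw [imgCard]
  refine Nat.card_congr ((Module.AEval'.of (Matrix.toLin' (x : Matrix (Fin n) (Fin n) F))).toEquiv.subtypeEquiv
    fun w => ⟨?_, ?_⟩)
  · rintro ⟨v, rfl⟩
    exact ⟨Module.AEval'.of (Matrix.toLin' (x : Matrix (Fin n) (Fin n) F)) v, rfl⟩
  · rintro ⟨v, hv⟩
    refine ⟨(Module.AEval'.of (Matrix.toLin' (x : Matrix (Fin n) (Fin n) F))).symm v,
      (Module.AEval'.of (Matrix.toLin' (x : Matrix (Fin n) (Fin n) F))).injective ?_⟩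
    refine Eq.trans ?_ hv
    refine (Module.AEval.of_aeval_smul (R := F) (M := Fin n → F) (a := Matrix.toLin' (x : Matrix (Fin n) (Fin n) F)) a
      ((Module.AEval'.of (Matrix.toLin' (x : Matrix (Fin n) (Fin n) F))).symm v)).trans ?_
    rw [LinearEquiv.apply_symm_apply]

theorem card_range_smul_congr {M N : Type*} [AddCommGroup M] [Module F[X] M] [AddCommGroup N]
    [Module F[X] N] (E : M ≃ₗ[F[X]] N) (a : F[X]) :
    Nat.card (Set.range fun v : M => a • v) = Nat.card (Set.range fun v : N => a • v) := by
  refine Nat.card_congr (E.toEquiv.subtypeEquiv fun w => ⟨?_, ?_⟩)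
  · rintro ⟨v, rfl⟩; exact ⟨E v, (map_smul E a v).symm⟩
  · rintro ⟨v, hv⟩
    refine ⟨E.symm v, E.injective ?_⟩
    simp only [map_smul, LinearEquiv.apply_symm_apply]
    exact hv

theorem card_range_smul_pi {ι : Type*} [Fintype ι] {M : ι → Type*} [∀ i, AddCommGroup (M i)]
    [∀ i, Module F[X] (M i)] (a : F[X]) :
    Nat.card (Set.range fun v : (i : ι) → M i => a • v) =
      ∏ i, Nat.card (Set.range fun v : M i => a • v) := by
  rw [← Nat.card_pi]
  refine Nat.card_congr
    { toFun := fun w i => ⟨w.1 i, by obtain ⟨v, hv⟩ := w.2; exact ⟨v i, congrFun hv i⟩⟩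
      invFun := fun w => ⟨fun i => (w i).1, ?_⟩
      left_inv := fun w => rfl
      right_inv := fun w => rfl }
  choose v hv using fun i => (w i).2
  exact ⟨v, funext hv⟩

theorem card_cyc {q : F[X]} (hq : q.Monic) : Nat.card (cyc q) = Fintype.card F ^ q.natDegree := by
  have : Module.Finite F (cyc q) := hq.finite_quotient
  rw [Module.natCard_eq_pow_finrank (K := F), finrank_span_quotient, Nat.card_eq_fintype_card]

theorem card_range_cyc {P r : F[X]} (hP : P.Monic ∧ Irreducible P) (hr : r.Monic ∧ Irreducible r)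
    (j k : ℕ) [Decidable (r = P)] :
    Nat.card (Set.range fun v : cyc (r ^ k) => P ^ j • v) =
      Fintype.card F ^ ((if r = P then k - j else k) * r.natDegree) := by
  by_cases h : r = P
  · rw [if_pos h]
    subst h
    rcases le_or_gt k j with hkj | hkj
    · have hz : ∀ v : cyc (r ^ k), r ^ j • v = 0 := fun v => by
        obtain ⟨a, rfl⟩ := Submodule.Quotient.mk_surjective _ v
        rw [← Submodule.Quotient.mk_smul, Submodule.Quotient.mk_eq_zero,
          Submodule.mem_span_singleton]
        exact ⟨r ^ (j - k) * a, by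
          rw [smul_eq_mul, smul_eq_mul, mul_right_comm, ← pow_add, Nat.sub_add_cancel hkj]⟩
      rw [show k - j = 0 by omega, zero_mul, pow_zero, Nat.card_eq_one_iff_unique]
      refine ⟨⟨?_⟩, ⟨⟨0, 0, hz 0⟩⟩⟩
      rintro ⟨a, v, rfl⟩ ⟨b, w, rfl⟩
      exact Subtype.ext ((hz v).trans (hz w).symm)
    · let ψ : F[X] →ₗ[F[X]] cyc (r ^ k) := r ^ j • (Submodule.span F[X] ({r ^ k} : Set F[X])).mkQ
      have hker : LinearMap.ker ψ = Submodule.span F[X] ({r ^ (k - j)} : Set F[X]) := by
        ext a
        rw [LinearMap.mem_ker]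
        show r ^ j • Submodule.Quotient.mk a = (0 : cyc (r ^ k)) ↔ _
        rw [← Submodule.Quotient.mk_smul, Submodule.Quotient.mk_eq_zero, smul_eq_mul,
          Submodule.mem_span_singleton, Submodule.mem_span_singleton]
        have hne : r ^ j ≠ 0 := pow_ne_zero _ hr.2.ne_zero
        have e : r ^ k = r ^ j * r ^ (k - j) := by rw [← pow_add, Nat.add_sub_cancel' hkj.le]
        constructor
        · rintro ⟨c, hc⟩
          refine ⟨c, mul_left_cancel₀ hne ?_⟩
          rw [← hc, smul_eq_mul, smul_eq_mul, e]; ring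
        · rintro ⟨c, rfl⟩
          exact ⟨c, by rw [smul_eq_mul, smul_eq_mul, e]; ring⟩
      have hrange : Set.range ψ = Set.range fun v : cyc (r ^ k) => r ^ j • v := by
        ext w
        constructor
        · rintro ⟨a, rfl⟩; exact ⟨_, rfl⟩
        · rintro ⟨v, rfl⟩
          obtain ⟨a, rfl⟩ := Submodule.Quotient.mk_surjective _ v
          exact ⟨a, rfl⟩
      rw [← hrange]
      refine (Nat.card_congr ((Equiv.setCongr (LinearMap.coe_range ψ).symm).trans
        ψ.quotKerEquivRange.symm.toEquiv)).trans ?_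
      rw [Nat.card_congr (Submodule.quotEquivOfEq _ _ hker).toEquiv, card_cyc (hr.1.pow _),
        natDegree_pow]
  · rw [if_neg h]
    have hcop : IsCoprime (P ^ j) (r ^ k) := by
      refine IsCoprime.pow (hP.2.coprime_iff_not_dvd.2 fun hd => h ?_)
      exact (eq_of_monic_of_associated hP.1 hr.1 (hP.2.associated_of_dvd hr.2 hd)).symm
    obtain ⟨s, t, hst⟩ := hcop
    have hsurj : Set.range (fun v : cyc (r ^ k) => P ^ j • v) = Set.univ := by
      refine Set.eq_univ_of_forall fun w => ⟨s • w, ?_⟩
      obtain ⟨a, rfl⟩ := Submodule.Quotient.mk_surjective _ w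
      simp only [smul_smul]
      rw [← Submodule.Quotient.mk_smul, Submodule.Quotient.eq, Submodule.mem_span_singleton]
      refine ⟨-(t * a), ?_⟩
      rw [smul_eq_mul, smul_eq_mul]
      linear_combination (-a) * hst
    rw [hsurj, Nat.card_coe_set_eq, Set.ncard_univ, card_cyc (hr.1.pow _), natDegree_pow]

open scoped Classical in
theorem imgCard_of_dec {ι : Type u} [Fintype ι] {x : GL (Fin n) F} {p : ι → F[X]} {e : ι → ℕ}
    (h : IsDec x p e) {P : F[X]} (hP : P.Monic ∧ Irreducible P) (j : ℕ) :
    imgCard x (P ^ j) =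
      Fintype.card F ^ ∑ i, (if p i = P then e i - j else e i) * (p i).natDegree := by
  obtain ⟨hp, -, ⟨E⟩⟩ := h
  rw [imgCard_eq_module, card_range_smul_congr E, card_range_smul_pi, ← Finset.prod_pow_eq_pow_sum]
  exact Finset.prod_congr rfl fun i _ => card_range_cyc hP ⟨(hp i).1, (hp i).2.1⟩ j (e i)

open scoped Classical in
/-- Decompositions with the same image sizes have the same tuple. -/
theorem levelProd_eq_of_exps {ι κ : Type*} [Fintype ι] [Fintype κ] {p : ι → F[X]} {e : ι → ℕ}
    {r : κ → F[X]} {d : κ → ℕ} (hp : ∀ i, (p i).Monic ∧ Irreducible (p i))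
    (hr : ∀ i, (r i).Monic ∧ Irreducible (r i))
    (h : ∀ (P : F[X]) (j : ℕ), P.Monic ∧ Irreducible P →
      ∑ i, (if p i = P then e i - j else e i) * (p i).natDegree =
        ∑ i, (if r i = P then d i - j else d i) * (r i).natDegree) :
    levelProd n p e = levelProd n r d := by
  have key : ∀ (P : F[X]), P.Monic ∧ Irreducible P → ∀ j : ℕ,
      (Finset.univ.filter fun i => p i = P ∧ e i = j + 1).card =
        (Finset.univ.filter fun i => r i = P ∧ d i = j + 1).card := by
    intro P hP
    -- the truncated sums, normalised by the total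
    let A : ℕ → ℕ := fun j => ∑ i, if p i = P then min j (e i) else 0
    let B : ℕ → ℕ := fun j => ∑ i, if r i = P then min j (d i) else 0
    have hA : ∀ j, ∑ i, (if p i = P then e i - j else e i) * (p i).natDegree + A j * P.natDegree =
        ∑ i, e i * (p i).natDegree := fun j => by
      rw [Finset.sum_mul, ← Finset.sum_add_distrib]
      refine Finset.sum_congr rfl fun i _ => ?_
      split_ifs with hi
      · rw [hi, ← add_mul]; congr 1; omega
      · rw [zero_mul, add_zero]
    have hB : ∀ j, ∑ i, (if r i = P then d i - j else d i) * (r i).natDegree + B j * P.natDegree =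
        ∑ i, d i * (r i).natDegree := fun j => by
      rw [Finset.sum_mul, ← Finset.sum_add_distrib]
      refine Finset.sum_congr rfl fun i _ => ?_
      split_ifs with hi
      · rw [hi, ← add_mul]; congr 1; omega
      · rw [zero_mul, add_zero]
    have hAB : ∀ j, A j = B j := fun j => by
      have h0 := h P 0 hP
      have h1 := h P j hP
      simp only [Nat.sub_zero, ite_self] at h0
      have a := hA j
      have b := hB j
      refine Nat.eq_of_mul_eq_mul_right hP.2.natDegree_pos ?_
      omega
    have hge : ∀ j, (Finset.univ.filter fun i => p i = P ∧ j + 1 ≤ e i).card =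
        (Finset.univ.filter fun i => r i = P ∧ j + 1 ≤ d i).card := by
      intro j
      have a : A (j + 1) = A j + (Finset.univ.filter fun i => p i = P ∧ j + 1 ≤ e i).card := by
        rw [Finset.card_filter, ← Finset.sum_add_distrib]
        refine Finset.sum_congr rfl fun i _ => ?_
        by_cases hi : p i = P
        · simp only [hi, if_true, true_and]; split_ifs <;> omega
        · simp [hi]
      have b : B (j + 1) = B j + (Finset.univ.filter fun i => r i = P ∧ j + 1 ≤ d i).card := by
        rw [Finset.card_filter, ← Finset.sum_add_distrib]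
        refine Finset.sum_congr rfl fun i _ => ?_
        by_cases hi : r i = P
        · simp only [hi, if_true, true_and]; split_ifs <;> omega
        · simp [hi]
      rw [hAB, hAB] at a
      omega
    intro j
    have a : (Finset.univ.filter fun i => p i = P ∧ j + 1 ≤ e i).card =
        (Finset.univ.filter fun i => p i = P ∧ j + 1 + 1 ≤ e i).card +
          (Finset.univ.filter fun i => p i = P ∧ e i = j + 1).card := by
      simp only [Finset.card_filter, ← Finset.sum_add_distrib]
      refine Finset.sum_congr rfl fun i _ => ?_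
      by_cases hi : p i = P
      · simp only [hi, true_and]; split_ifs <;> omega
      · simp [hi]
    have b : (Finset.univ.filter fun i => r i = P ∧ j + 1 ≤ d i).card =
        (Finset.univ.filter fun i => r i = P ∧ j + 1 + 1 ≤ d i).card +
          (Finset.univ.filter fun i => r i = P ∧ d i = j + 1).card := by
      simp only [Finset.card_filter, ← Finset.sum_add_distrib]
      refine Finset.sum_congr rfl fun i _ => ?_
      by_cases hi : r i = P
      · simp only [hi, true_and]; split_ifs <;> omega
      · simp [hi]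
    rw [hge j, hge (j + 1)] at a
    omega
  funext k
  have hms : (Finset.univ.filter (fun i => e i = k.val + 1)).val.map p =
      (Finset.univ.filter (fun i => d i = k.val + 1)).val.map r := by
    refine Multiset.ext.2 fun P => ?_
    by_cases hP : P.Monic ∧ Irreducible P
    · have h1 := key P hP k.val
      rw [Multiset.count_map, Multiset.count_map, ← Finset.filter_val, ← Finset.filter_val,
        Finset.card_val, Finset.card_val, Finset.filter_filter, Finset.filter_filter]
      convert h1 using 2 <;> (ext i; simp [eq_comm, and_comm])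
    · rw [Multiset.count_eq_zero.2, Multiset.count_eq_zero.2]
      · intro hm
        obtain ⟨i, -, rfl⟩ := Multiset.mem_map.1 hm
        exact hP (hr i)
      · intro hm
        obtain ⟨i, -, rfl⟩ := Multiset.mem_map.1 hm
        exact hP (hp i)
  rw [levelProd, levelProd, Finset.prod_eq_multiset_prod, Finset.prod_eq_multiset_prod, hms]

theorem exists_isDec (x : GL (Fin n) F) :
    ∃ (ι : Type u) (_ : Fintype ι) (p : ι → F[X]) (e : ι → ℕ), IsDec x p e := by
  obtain ⟨ι, hι, p, e, h1, h2, h3⟩ := exists_decomp x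
  exact ⟨ι, hι, p, e, h1, h2, h3⟩

/-- The tuple of `x`. -/
noncomputable def tup (x : GL (Fin n) F) : Fin n → F[X] :=
  @levelProd F _ _ (exists_isDec x).choose_spec.choose n
    (exists_isDec x).choose_spec.choose_spec.choose
    (exists_isDec x).choose_spec.choose_spec.choose_spec.choose

theorem tup_spec (x : GL (Fin n) F) : ∃ (ι : Type u) (_ : Fintype ι) (p : ι → F[X]) (e : ι → ℕ),
    IsDec x p e ∧ tup x = levelProd n p e :=
  ⟨_, _, _, _, (exists_isDec x).choose_spec.choose_spec.choose_spec.choose_spec, rfl⟩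

theorem tup_eq {ι : Type u} [Fintype ι] {x : GL (Fin n) F} {p : ι → F[X]} {e : ι → ℕ}
    (h : IsDec x p e) : tup x = levelProd n p e := by
  classical
  obtain ⟨κ, _, r, d, hd, he⟩ := tup_spec x
  rw [he]
  refine levelProd_eq_of_exps (fun i => ⟨(hd.1 i).1, (hd.1 i).2.1⟩)
    (fun i => ⟨(h.1 i).1, (h.1 i).2.1⟩) fun P j hP => ?_
  exact Nat.pow_right_injective Fintype.one_lt_card
    ((imgCard_of_dec hd hP j).symm.trans (imgCard_of_dec h hP j))

theorem tup_mem (x : GL (Fin n) F) : tup x ∈ tupleSet n n := by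
  obtain ⟨κ, _, r, d, hd, he⟩ := tup_spec x
  rw [he]
  exact levelProd_mem hd.1 hd.2.1

theorem isConj_of_tup_eq {x y : GL (Fin n) F} (h : tup x = tup y) : IsConj x y := by
  obtain ⟨ι, _, p, e, hd, he⟩ := tup_spec x
  obtain ⟨κ, _, r, d, hd', he'⟩ := tup_spec y
  obtain ⟨T⟩ := equiv_of_levelProd_eq hd.1 hd'.1 hd.2.1 hd'.2.1 (he ▸ he' ▸ h)
  obtain ⟨E⟩ := hd.2.2
  obtain ⟨E'⟩ := hd'.2.2
  exact isConj_of_equiv (E.trans (T.trans E'.symm))

theorem tup_eq_of_isConj {x y : GL (Fin n) F} (h : IsConj x y) : tup x = tup y := by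
  classical
  obtain ⟨c, hc⟩ := isConj_iff.1 h
  obtain ⟨ι, _, p, e, hd, he⟩ := tup_spec x
  obtain ⟨κ, _, r, d, hd', he'⟩ := tup_spec y
  rw [he, he']
  refine levelProd_eq_of_exps (fun i => ⟨(hd.1 i).1, (hd.1 i).2.1⟩)
    (fun i => ⟨(hd'.1 i).1, (hd'.1 i).2.1⟩) fun P j hP => ?_
  refine Nat.pow_right_injective Fintype.one_lt_card
    (((imgCard_of_dec hd hP j).symm.trans ?_).trans (imgCard_of_dec hd' hP j))
  let L : (Fin n → F) ≃ₗ[F] (Fin n → F) :=
    Matrix.toLin'OfInv (Units.inv_mul c) (Units.mul_inv c)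
  have hconj : L.conjAlgEquiv F (Matrix.toLin' (x : Matrix (Fin n) (Fin n) F)) =
      Matrix.toLin' (y : Matrix (Fin n) (Fin n) F) := by
    rw [← hc]
    refine LinearMap.ext fun v => ?_
    simp [L, Matrix.toLin'OfInv, Matrix.mulVec_mulVec]
  have h2 : aeval (Matrix.toLin' (y : Matrix (Fin n) (Fin n) F)) (P ^ j) =
      L.conjAlgEquiv F (aeval (Matrix.toLin' (x : Matrix (Fin n) (Fin n) F)) (P ^ j)) := by
    rw [← hconj, ← AlgEquiv.coe_toAlgHom, aeval_algHom_apply]
  rw [imgCard, imgCard, h2]
  refine Nat.card_congr (L.toEquiv.subtypeEquiv fun w => ?_)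
  generalize aeval (Matrix.toLin' (x : Matrix (Fin n) (Fin n) F)) (P ^ j) = f
  constructor
  · rintro ⟨v, rfl⟩
    exact ⟨L v, by show L (f (L.symm (L v))) = L (f v); rw [LinearEquiv.symm_apply_apply]⟩
  · rintro ⟨v, hv⟩
    exact ⟨L.symm v, L.injective hv⟩

/-- The tuple of a class. -/
noncomputable def classTup (C : ConjClasses (GL (Fin n) F)) : Fin n → F[X] :=
  Quotient.liftOn C tup fun _ _ h => tup_eq_of_isConj h

theorem classTup_mk (x : GL (Fin n) F) : classTup (ConjClasses.mk x) = tup x := rfl

theorem classTup_injective :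
    Function.Injective (classTup : ConjClasses (GL (Fin n) F) → Fin n → F[X]) := by
  intro C C' h
  obtain ⟨x, rfl⟩ := ConjClasses.mk_surjective C
  obtain ⟨y, rfl⟩ := ConjClasses.mk_surjective C'
  exact ConjClasses.mk_eq_mk_iff_isConj.2 (isConj_of_tup_eq h)

end CfsgLib.SLClassCount
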