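import Cfsg.Agent.SLClassCount.Invariant

/-!
Every tuple of polynomials is the tuple of an invertible matrix, and the tuple gives the
determinant: the classes of `GL n q` correspond to the tuples.
-/

set_option autoImplicit false

open Polynomial

namespace CfsgLib.SLClassCount

open CfsgLib.GLClassCount

universe u

variable {F : Type u} [Field F] {n : ℕ}

/-- The signed constant term. -/
noncomputable def sgnConst (h : F[X]) : F := (-1) ^ h.natDegree * h.coeff 0

theorem sgnConst_prod {ι : Type*} (s : Finset ι) (p : ι → F[X]) (hp : ∀ i ∈ s, (p i).Monic) :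
    sgnConst (∏ i ∈ s, p i) = ∏ i ∈ s, sgnConst (p i) := by
  rw [sgnConst, natDegree_prod_of_monic _ _ hp, coeff_zero_prod, ← Finset.prod_pow_eq_pow_sum,
    ← Finset.prod_mul_distrib]
  rfl

theorem sgnConst_pow {p : F[X]} (hp : p.Monic) (k : ℕ) : sgnConst (p ^ k) = sgnConst p ^ k := by
  simpa using sgnConst_prod (Finset.range k) (fun _ => p) fun _ _ => hp

/-- Multiplication by `X` on a cyclic module. -/
noncomputable def xMap (q : F[X]) : cyc q →ₗ[F] cyc q :=
  (LinearMap.lsmul F[X] (cyc q) X).restrictScalars F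

theorem det_xMap {q : F[X]} (hq : q.Monic) : LinearMap.det (xMap q) = sgnConst q := by
  let pb := AdjoinRoot.powerBasis hq.ne_zero
  have h := Algebra.PowerBasis.norm_gen_eq_coeff_zero_minpoly pb
  rw [AdjoinRoot.minpoly_powerBasis_gen_of_monic hq, Algebra.norm_apply] at h
  have e : pb.dim = q.natDegree := AdjoinRoot.powerBasis_dim hq.ne_zero
  rw [e] at h
  rw [sgnConst, ← h]
  congr 1

theorem det_blockDiag' {ι : Type*} [Fintype ι] [DecidableEq ι] {m : ι → Type*} [∀ i, Fintype (m i)]
    [∀ i, DecidableEq (m i)] (A : ∀ i, Matrix (m i) (m i) F) :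
    (Matrix.blockDiagonal' A).det = ∏ i, (A i).det := by
  letI : LinearOrder ι := LinearOrder.lift' _ (Fintype.equivFin ι).injective
  rw [(Matrix.blockTriangular_blockDiagonal' A).det_fintype]
  refine Finset.prod_congr rfl fun i _ => ?_
  let e : m i ≃ {x : (Σ j, m j) // x.1 = i} := (Equiv.sigmaSubtype i).symm
  rw [← Matrix.det_submatrix_equiv_self e]
  congr 1
  ext a b
  show Matrix.blockDiagonal' A ⟨i, a⟩ ⟨i, b⟩ = A i a b
  rw [Matrix.blockDiagonal'_apply_eq]

theorem det_piMap {ι : Type*} [Fintype ι] {M : ι → Type*} [∀ i, AddCommGroup (M i)]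
    [∀ i, Module F (M i)] [∀ i, Module.Finite F (M i)] (f : ∀ i, M i →ₗ[F] M i) :
    LinearMap.det (LinearMap.pi fun i => (f i).comp (LinearMap.proj i)) =
      ∏ i, LinearMap.det (f i) := by
  classical
  let b := fun i => Module.finBasis F (M i)
  rw [← LinearMap.det_toMatrix (Pi.basis b), Finset.prod_congr rfl fun i _ =>
    (LinearMap.det_toMatrix (b i) (f i)).symm, ← det_blockDiag']
  congr 1
  ext ⟨i, a⟩ ⟨j, c⟩
  rw [LinearMap.toMatrix_apply, Matrix.blockDiagonal'_apply]
  simp only [Pi.basis_apply, Pi.basis_repr, LinearMap.pi_apply, LinearMap.coe_comp,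
    Function.comp_apply, LinearMap.proj_apply]
  by_cases h : i = j
  · subst h; simp [LinearMap.toMatrix_apply]
  · simp [dif_neg h, Pi.single_eq_of_ne h]

variable [Fintype F]

/-- Multiplication by `X` on a sum of cyclic modules. -/
noncomputable def xPi {ι : Type u} [Fintype ι] (p : ι → F[X]) (e : ι → ℕ) :
    ((i : ι) → cyc (p i ^ e i)) →ₗ[F] ((i : ι) → cyc (p i ^ e i)) :=
  LinearMap.pi fun i => (xMap (p i ^ e i)).comp (LinearMap.proj i)

theorem det_xPi {ι : Type u} [Fintype ι] {p : ι → F[X]} (e : ι → ℕ) (hp : ∀ i, (p i).Monic) :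
    LinearMap.det (xPi p e) = ∏ i, sgnConst (p i) ^ e i := by
  have : ∀ i, Module.Finite F (cyc (p i ^ e i)) := fun i => ((hp i).pow _).finite_quotient
  rw [xPi, det_piMap]
  exact Finset.prod_congr rfl fun i _ => by rw [det_xMap ((hp i).pow _), sgnConst_pow (hp i)]

theorem det_of_dec {ι : Type u} [Fintype ι] {x : GL (Fin n) F} {p : ι → F[X]} {e : ι → ℕ}
    (h : IsDec x p e) :
    (Matrix.GeneralLinearGroup.det x : F) = ∏ i, sgnConst (p i) ^ e i := by
  obtain ⟨hp, -, ⟨E⟩⟩ := h
  set f := Matrix.toLin' (x : Matrix (Fin n) (Fin n) F) with hf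
  let L : (Fin n → F) ≃ₗ[F] ((i : ι) → cyc (p i ^ e i)) :=
    (Module.AEval'.of f).trans (E.restrictScalars F)
  rw [Matrix.GeneralLinearGroup.val_det_apply, ← LinearMap.det_toLin', ← det_xPi e fun i => (hp i).1,
    ← hf, ← LinearMap.det_conj f L]
  congr 1
  refine LinearMap.ext fun w => ?_
  show L (f (L.symm w)) = xPi p e w
  have hL : ∀ v, L (f v) = (X : F[X]) • L v := fun v => by
    show E (Module.AEval'.of f (f v)) = (X : F[X]) • E (Module.AEval'.of f v)
    rw [← Module.AEval'.X_smul_of, map_smul]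
  rw [hL, LinearEquiv.apply_symm_apply]
  rfl

theorem exists_dec {ι : Type u} [Fintype ι] {p : ι → F[X]} {e : ι → ℕ}
    (hp : ∀ i, (p i).Monic ∧ Irreducible (p i) ∧ (p i).coeff 0 ≠ 0 ∧ 0 < e i)
    (hsum : ∑ i, e i * (p i).natDegree = n) : ∃ x : GL (Fin n) F, IsDec x p e := by
  classical
  have : ∀ i, Module.Finite F (cyc (p i ^ e i)) := fun i => ((hp i).1.pow _).finite_quotient
  have hfr : Module.finrank F ((i : ι) → cyc (p i ^ e i)) = n := by
    rw [Module.finrank_pi_fintype]
    simp only [finrank_span_quotient, natDegree_pow]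
    exact hsum
  let b := Module.finBasisOfFinrankEq F _ hfr
  have hdet : IsUnit (LinearMap.toMatrix b b (xPi p e)).det := by
    rw [LinearMap.det_toMatrix, det_xPi e fun i => (hp i).1, isUnit_iff_ne_zero]
    exact Finset.prod_ne_zero_iff.2 fun i _ => pow_ne_zero _
      (mul_ne_zero (pow_ne_zero _ (neg_ne_zero.2 one_ne_zero)) (hp i).2.2.1)
  let x : GL (Fin n) F := ((Matrix.isUnit_iff_isUnit_det _).2 hdet).unit
  refine ⟨x, hp, hsum, ?_⟩
  set f := Matrix.toLin' (x : Matrix (Fin n) (Fin n) F) with hf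
  let L : (Fin n → F) ≃ₗ[F] ((i : ι) → cyc (p i ^ e i)) := b.equivFun.symm
  have hL : ∀ v, L (f v) = (X : F[X]) • L v := fun v => by
    have h1 : b.repr (xPi p e (L v)) = (LinearMap.toMatrix b b (xPi p e)).mulVec v := by
      rw [← LinearMap.toMatrix_mulVec_repr b b]
      congr 1
      exact b.equivFun.apply_symm_apply v
    apply b.equivFun.injective
    show b.equivFun (b.equivFun.symm _) = _
    rw [LinearEquiv.apply_symm_apply]
    show f v = b.repr (xPi p e (L v))
    rw [h1, hf, Matrix.toLin'_apply]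
    rfl
  let M : glModule x ≃ₗ[F] ((i : ι) → cyc (p i ^ e i)) := (Module.AEval'.of f).symm.trans L
  refine ⟨{ M with map_smul' := fun a w => ?_ }⟩
  show M (a • w) = a • M w
  induction a using Polynomial.induction_on' with
  | add a c ha hc => rw [add_smul, map_add, ha, hc]; exact (add_smul a c _).symm
  | monomial k c =>
    rw [← C_mul_X_pow_eq_monomial, mul_smul, mul_smul, C_eq_algebraMap, algebraMap_smul,
      map_smul, ← IsScalarTower.algebraMap_smul F[X] c (M (X ^ k • w))]
    congr 1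
    induction k with
    | zero => simp
    | succ k ih =>
      rw [pow_succ', mul_smul, mul_smul, ← ih]
      show L ((Module.AEval'.of f).symm (X • (X ^ k • w))) = X • M (X ^ k • w)
      rw [Module.AEval'.of_symm_X_smul]
      exact hL _

theorem sgnConst_levelProd {ι : Type u} [Fintype ι] {p : ι → F[X]} {e : ι → ℕ}
    (hp : ∀ i, (p i).Monic ∧ Irreducible (p i) ∧ (p i).coeff 0 ≠ 0 ∧ 0 < e i)
    (hsum : ∑ i, e i * (p i).natDegree = n) :
    ∏ k : Fin n, sgnConst (levelProd n p e k) ^ (k.val + 1) = ∏ i, sgnConst (p i) ^ e i := by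
  classical
  have hmaps : ∀ i ∈ (Finset.univ : Finset ι),
      e i ∈ (Finset.univ : Finset (Fin n)).image (fun k => k.val + 1) := fun i _ => by
    have h1 := exponent_le (fun i => (hp i).2.1) hsum i
    have h2 := (hp i).2.2.2
    exact Finset.mem_image.2 ⟨⟨e i - 1, by omega⟩, Finset.mem_univ _, by simp; omega⟩
  rw [← Finset.prod_fiberwise_of_maps_to hmaps,
    Finset.prod_image (fun a _ b _ h => Fin.ext (by omega))]
  refine Finset.prod_congr rfl fun k _ => ?_
  rw [levelProd, sgnConst_prod _ _ fun i _ => (hp i).1, ← Finset.prod_pow]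
  exact Finset.prod_congr rfl fun i hi => by rw [(Finset.mem_filter.1 hi).2]

theorem det_eq_tup (x : GL (Fin n) F) :
    (Matrix.GeneralLinearGroup.det x : F) = ∏ k : Fin n, sgnConst (tup x k) ^ (k.val + 1) := by
  obtain ⟨ι, _, p, e, hd, he⟩ := tup_spec x
  rw [he, sgnConst_levelProd hd.1 hd.2.1, det_of_dec hd]

theorem of_mem_tupleSet : ∀ (K n : ℕ) (g : Fin K → F[X]), g ∈ tupleSet n K →
    (∀ k, (g k).Monic ∧ (g k).coeff 0 ≠ 0) ∧ ∑ k, (k.val + 1) * (g k).natDegree = n := by
  classical
  intro K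
  induction K with
  | zero =>
    intro n g hg
    simp only [tupleSet] at hg
    split_ifs at hg with h
    · exact ⟨fun k => k.elim0, by simp [h]⟩
    · exact absurd hg (Finset.notMem_empty _)
  | succ K ih =>
    intro n g hg
    simp only [tupleSet, Finset.mem_biUnion, Finset.mem_image, Finset.mem_product,
      Finset.mem_range] at hg
    obtain ⟨m, hm, ⟨h, g'⟩, ⟨hh, hg'⟩, rfl⟩ := hg
    obtain ⟨h1, h2⟩ := ih _ _ hg'
    obtain ⟨⟨hmon, hdeg⟩, h0⟩ := mem_goodSet.1 hh
    refine ⟨fun k => ?_, ?_⟩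
    · induction k using Fin.lastCases with
      | last => rw [Fin.snoc_last]; exact ⟨hmon, h0⟩
      | cast i => rw [Fin.snoc_castSucc]; exact h1 i
    · rw [Fin.sum_univ_castSucc]
      simp only [Fin.snoc_castSucc, Fin.snoc_last, Fin.val_castSucc, Fin.val_last]
      have h3 : (K + 1) * m ≤ n := by
        rw [mul_comm]; exact (Nat.le_div_iff_mul_le (Nat.succ_pos K)).1 (Nat.lt_succ_iff.1 hm)
      rw [h2, hdeg, Nat.sub_add_cancel h3]

theorem exists_tup_eq {g : Fin n → F[X]} (hg : g ∈ tupleSet n n) :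
    ∃ x : GL (Fin n) F, tup x = g := by
  classical
  obtain ⟨hg1, hg2⟩ := of_mem_tupleSet n n g hg
  let nf : Fin n → List F[X] := fun k =>
    (UniqueFactorizationMonoid.normalizedFactors (g k)).toList
  let ι : Type u := ULift.{u} (Σ k : Fin n, Fin (nf k).length)
  let p : ι → F[X] := fun i => (nf i.down.1).get i.down.2
  let e : ι → ℕ := fun i => i.down.1.val + 1
  have hmem : ∀ i : ι, p i ∈ UniqueFactorizationMonoid.normalizedFactors (g i.down.1) := fun i =>
    Multiset.mem_toList.1 (List.get_mem _ _)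
  have hprod : ∀ k, ∏ j : Fin (nf k).length, (nf k).get j = g k := fun k => by
    rw [← List.prod_ofFn, List.ofFn_get, Multiset.prod_toList]
    rw [UniqueFactorizationMonoid.prod_normalizedFactors_eq (hg1 k).1.ne_zero,
      (hg1 k).1.normalize_eq_self]
  have hp : ∀ i, (p i).Monic ∧ Irreducible (p i) ∧ (p i).coeff 0 ≠ 0 ∧ 0 < e i := by
    intro i
    have hirr := UniqueFactorizationMonoid.irreducible_of_normalized_factor _ (hmem i)
    refine ⟨?_, hirr, fun h0 => ?_, Nat.succ_pos _⟩
    · rw [← UniqueFactorizationMonoid.normalize_normalized_factor _ (hmem i)]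
      exact monic_normalize hirr.ne_zero
    · obtain ⟨c, hc⟩ := UniqueFactorizationMonoid.dvd_of_mem_normalizedFactors (hmem i)
      exact (hg1 i.down.1).2 (by rw [hc, mul_coeff_zero, h0, zero_mul])
  have hlev : ∀ k : Fin n, levelProd n p e k = g k := by
    intro k
    rw [levelProd, ← hprod k]
    symm
    refine Finset.prod_bij (fun j _ => ULift.up ⟨k, j⟩) (fun j _ => Finset.mem_filter.2
      ⟨Finset.mem_univ _, rfl⟩) (fun a _ b _ h => by simpa using congrArg ULift.down h)
      (fun i hi => ?_) (fun j _ => rfl)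
    obtain ⟨⟨k', j⟩⟩ := i
    obtain rfl : k' = k := Fin.ext (by simpa [e] using (Finset.mem_filter.1 hi).2)
    exact ⟨j, Finset.mem_univ _, rfl⟩
  have hsum : ∑ i, e i * (p i).natDegree = n := by
    conv_rhs => rw [← hg2]
    rw [← Equiv.ulift.symm.sum_comp, Fintype.sum_sigma]
    refine Finset.sum_congr rfl fun k _ => ?_
    rw [← hprod k, natDegree_prod_of_monic _ _ fun j _ => (hp (ULift.up ⟨k, j⟩)).1, Finset.mul_sum]
    rfl
  obtain ⟨x, hx⟩ := exists_dec hp hsum
  exact ⟨x, (tup_eq hx).trans (funext hlev)⟩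

/-- The classes of `GL n q` correspond to the tuples. -/
noncomputable def classEquiv : ConjClasses (GL (Fin n) F) ≃ {g // g ∈ tupleSet (F := F) n n} :=
  Equiv.ofBijective (fun C => ⟨classTup C, by
    obtain ⟨x, rfl⟩ := ConjClasses.mk_surjective C
    exact tup_mem x⟩) ⟨fun _ _ h => classTup_injective (congrArg Subtype.val h), fun g => by
    obtain ⟨x, hx⟩ := exists_tup_eq g.2
    exact ⟨ConjClasses.mk x, Subtype.ext hx⟩⟩

end CfsgLib.SLClassCount
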